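import Cfsg.Agent.H996.Eight.Cert

/-!
# S4612, `E₈`, `(5, 15)`: the two operators on the functions of the class (helper594)

* `cls_inv` : the class of `g⁻¹`;
* `opA` : the averaged operator `T_j` (right side); `opA_cls` : it acts on the functions of the class by the matrix of the
  table; `opL` : the same on the left side, `opL_cls`;
* `S2 F` : the space spanned by the functions `g ↦ F (u * g * v)`; it is stable under `opA` and `opL`.
-/

set_option autoImplicit false
set_option linter.unusedSectionVars false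

namespace Cfsg.Agent.H594.PQ

open Cfsg.Agent.H967.Sph Cfsg.Agent.H64.Dl.Sph Cfsg.Agent.H996.Eight Cfsg.Agent.H996.Eight.Cert
open CoxeterSystem Cfsg.Agent.ChevalleyStructure.CoxeterGeom Cfsg.Agent.Tits.Roots Cfsg.Agent.Tits.Core
  Cfsg.Agent.Nodes.Reps Cfsg.Agent.Nodes.BNOf Cfsg.Agent.Nodes.Bruhat Cfsg.Agent.Nodes.LeviDec
open scoped BigOperators

section Cls

variable {I W : Type*} [Fintype I] [DecidableEq I] [Group W] {M : CoxeterMatrix I}
  (cs : CoxeterSystem M W) {A : I → I → ℤ} (h : IsCartan M A) {j : I} {N m : ℕ} (t : Tab A j N m)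

/-- words in the letters `≠ j` do not change the class -/
theorem cls_foldl {ω : List I} (hω : ∀ i ∈ ω, i ≠ j) (s : Fin N) :
    t.cls (ω.foldl (fun b i => t.st i b) s) = t.cls s := by
  induction ω generalizing s with
  | nil => rfl
  | cons i ω ih =>
    rw [List.foldl_cons, ih (fun k hk => hω k (by simp [hk])), t.cls_st i (hω i (by simp))]

theorem cls_sw_mul_right {v : W} (hv : v ∈ WJ cs {i | i ≠ j}) (w : W) :
    t.cls (t.sw cs h (w * v)) = t.cls (t.sw cs h w) := by
  obtain ⟨ω, hω, rfl⟩ := Cfsg.Agent.Tits.Exchange.exists_word_of_mem_WJ cs hv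
  rw [Tab.sw_wordProd]
  exact cls_foldl t hω _

/-- `star` is the effect of the inversion on the classes: it is enough to know one word for every class -/
def IsStar {A : I → I → ℤ} {j : I} {N m : ℕ} (t : Tab A j N m) (star : Fin m → Fin m) : Prop :=
  ∀ c, ∃ w : List I, t.cls (w.foldl (fun b i => t.st i b) t.o) = c ∧
    t.cls (w.reverse.foldl (fun b i => t.st i b) t.o) = star c

/-- the class of the inverse, in the Weyl group -/
theorem cls_sw_inv {star : Fin m → Fin m} (hs : IsStar t star) (w : W) :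
    t.cls (t.sw cs h w⁻¹) = star (t.cls (t.sw cs h w)) := by
  obtain ⟨c, hc⟩ : ∃ c, c = t.cls (t.sw cs h w) := ⟨_, rfl⟩
  have h1 : t.sw cs h (cs.wordProd (t.path (t.crep c))) = t.crep c := by
    rw [← one_mul (cs.wordProd _), Tab.sw_wordProd, Tab.sw_one, t.path_spec]
  obtain ⟨v, hv, u, hu, e⟩ := Tab.exists_word cs h t h1 hc.symm
  obtain ⟨ω, hω1, hω2⟩ := hs c
  have h3 : t.cls (t.sw cs h (cs.wordProd ω)) = c := by
    rw [← one_mul (cs.wordProd _), Tab.sw_wordProd, Tab.sw_one, hω1]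
  obtain ⟨v', hv', u', hu', e'⟩ := Tab.exists_word cs h t h1 h3
  have h2 : w⁻¹ = (v⁻¹ * v') * ((cs.wordProd ω)⁻¹ * (u' * u⁻¹)) := by
    rw [e, e']
    group
  rw [← hc, h2, Tab.sw_mul_left cs h t (mul_mem (inv_mem hv) hv'),
    cls_sw_mul_right cs h t (mul_mem hu' (inv_mem hu)), ← wordProd_reverse,
    ← one_mul (cs.wordProd _), Tab.sw_wordProd, Tab.sw_one, hω2]

end Cls

section Ops

universe u

variable {I W : Type*} {Y : Type u} [Fintype I] [DecidableEq I] [Group W] [Finite W] [Group Y] [Finite Y]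
    {M : CoxeterMatrix I} {cs : CoxeterSystem M W} {A : I → I → ℤ} {h : IsCartan M A} {p : ℕ} {T : Subgroup Y}
    {n : I → Y} {X : (I → ℤ) → Subgroup Y} (R : RGD cs h p T n X) (hG : GG cs h T X = ⊤)
    {j : I} {N m : ℕ}

/-- **the class of the inverse** -/
theorem cls_inv (t : Tab A j N m) {star : Fin m → Fin m} (hs : IsStar t star) (g : Y) :
    t.cls (stY R hG t g⁻¹) = star (t.cls (stY R hG t g)) := by
  rw [stY_eq R hG t (cell_wOf R hG g).inv, cls_sw_inv cs h t hs]
  rfl

/-- the averaged operator `T_j` over the right cosets of `P`, times `f` -/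
noncomputable def opA (cs : CoxeterSystem M W) (h : IsCartan M A) (T : Subgroup Y) (X : (I → ℤ) → Subgroup Y)
    (n : I → Y) (j : I) (f : ℚ) (K : Y → ℚ) : Y → ℚ := fun g =>
  f / Nat.card (PJ cs h T X {i | i ≠ j}) * ∑ᶠ p : PJ cs h T X {i | i ≠ j}, opT X n j K (g * p)

/-- the same on the left side -/
noncomputable def opL (cs : CoxeterSystem M W) (h : IsCartan M A) (T : Subgroup Y) (X : (I → ℤ) → Subgroup Y)
    (n : I → Y) (j : I) (f : ℚ) (K : Y → ℚ) : Y → ℚ := fun g => opA cs h T X n j f (fun y => K y⁻¹) g⁻¹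

/-- the matrix of the table -/
def bbv (D : Data A j N m) (x : ℚ) (k : Fin m → ℚ) (r : Fin m) : ℚ := ∑ c, ev x (D.bb r c) * k c

/-- **the averaged operator on the functions of the class** -/
theorem opA_cls (D : Data A j N m) {x : ℕ} (hx : 2 ≤ x) (hq : ∀ i, Nat.card (X (sr i)) = x ^ D.e i) (k : Fin m → ℚ)
    (g : Y) : opA cs h T X n j (ev x D.ff) (fun g => k (D.t.cls (stY R hG D.t g))) g =
      bbv D x k (D.t.cls (stY R hG D.t g)) := by
  classical
  have := Fintype.ofFinite Y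
  have := Fintype.ofFinite (PJ cs h T X {i | i ≠ j})
  have hx' : (2 : ℚ) ≤ (x : ℚ) := by exact_mod_cast hx
  obtain ⟨c, hc⟩ : ∃ c, c = D.t.cls (stY R hG D.t g) := ⟨_, rfl⟩
  have h1 := Av.sum_P R hG D.t (fun i => x ^ D.e i) hq (fun s => x ^ D.wl s) (by simp only [D.wo, pow_zero])
    (fun i s h9 => by
      show x ^ D.wl (D.t.st i s) = x ^ D.e i * x ^ D.wl s
      rw [D.ws i s h9, pow_add]) (D.t.tau (fun i => x ^ D.e i) j (fun u => k (D.t.cls u))) g
  rw [← hc, D.chkM.spec x k c] at h1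
  have hK : (∑ s, if D.t.cls s = c then ((x ^ D.wl s : ℕ) : ℚ) else 0) = ev x (D.kk c) := by
    rw [← ChkK.spec (x : ℚ) D.chkK c, Finset.sum_filter]
    refine Finset.sum_congr rfl fun s _ => ?_
    push_cast
    rfl
  rw [hK] at h1
  have hKc := ev_pos hx' (D.chkP c)
  have hP : (Fintype.card (PJ cs h T X {i | i ≠ j}) : ℚ) ≠ 0 := Nat.cast_ne_zero.2 Fintype.card_ne_zero
  have e3 : ev x (D.kk c) * bbv D x k c = ev x D.ff * ∑ c', ev x (D.mat c c') * k c' := by
    rw [bbv, Finset.mul_sum, Finset.mul_sum]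
    refine Finset.sum_congr rfl fun c' _ => ?_
    have h9 := ev_of_pEq (x : ℚ) (D.chkB c c')
    rw [ev_pMul, ev_pMul] at h9
    rw [← mul_assoc, h9, mul_assoc]
  rw [opA, opT_stY R hG D.t _ hq j (fun u => k (D.t.cls u)), finsum_eq_sum_of_fintype, Nat.card_eq_fintype_card, ← hc]
  beta_reduce
  refine mul_left_cancel₀ hKc.ne' ?_
  rw [e3, div_mul_eq_mul_div, mul_div_assoc', div_eq_iff hP]
  calc ev x (D.kk c) * (ev x D.ff * ∑ p : PJ cs h T X {i | i ≠ j},
        D.t.tau (fun i => x ^ D.e i) j (fun u => k (D.t.cls u)) (stY R hG D.t (g * p)))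
      = ev x D.ff * ((∑ p : PJ cs h T X {i | i ≠ j},
        D.t.tau (fun i => x ^ D.e i) j (fun u => k (D.t.cls u)) (stY R hG D.t (g * p))) * ev x (D.kk c)) := by ring
    _ = _ := by rw [h1]; ring

/-- **the left operator on the functions of the class** -/
theorem opL_cls (D : Data A j N m) {x : ℕ} (hx : 2 ≤ x) (hq : ∀ i, Nat.card (X (sr i)) = x ^ D.e i)
    {star : Fin m → Fin m} (hs : IsStar D.t star) (k : Fin m → ℚ) (g : Y) : opL cs h T X n j (ev x D.ff) (fun g => k (D.t.cls (stY R hG D.t g))) g =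
      bbv D x (fun c => k (star c)) (star (D.t.cls (stY R hG D.t g))) := by
  rw [opL]
  have h1 : (fun y : Y => k (D.t.cls (stY R hG D.t y⁻¹))) = fun y => (fun c => k (star c)) (D.t.cls (stY R hG D.t y)) := by
    funext y
    rw [cls_inv R hG D.t hs]
  rw [h1, opA_cls R hG D hx hq (fun c => k (star c)), cls_inv R hG D.t hs]

end Ops

section Span

universe u

variable {Y : Type u} [Group Y]

/-- the space of the two-sided translates of `F` -/
def S2 (F : Y → ℚ) : Submodule ℚ (Y → ℚ) :=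
  Submodule.span ℚ (Set.range fun uv : Y × Y => fun g : Y => F (uv.1 * g * uv.2))

theorem S2_self (F : Y → ℚ) : F ∈ S2 F :=
  Submodule.subset_span ⟨(1, 1), by funext g; simp⟩

theorem S2_right {F K : Y → ℚ} (hK : K ∈ S2 F) (v : Y) : (fun g => K (g * v)) ∈ S2 F := by
  have h1 : S2 F ≤ (S2 F).comap (LinearMap.funLeft ℚ ℚ fun g : Y => g * v) := by
    rw [S2, Submodule.span_le]
    rintro _ ⟨uv, rfl⟩
    refine Submodule.subset_span ⟨(uv.1, v * uv.2), ?_⟩
    funext g
    show F (uv.1 * g * (v * uv.2)) = F (uv.1 * (g * v) * uv.2)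
    group
  exact h1 hK

theorem S2_left {F K : Y → ℚ} (hK : K ∈ S2 F) (u : Y) : (fun g => K (u * g)) ∈ S2 F := by
  have h1 : S2 F ≤ (S2 F).comap (LinearMap.funLeft ℚ ℚ fun g : Y => u * g) := by
    rw [S2, Submodule.span_le]
    rintro _ ⟨uv, rfl⟩
    refine Submodule.subset_span ⟨(uv.1 * u, uv.2), ?_⟩
    funext g
    show F (uv.1 * u * g * uv.2) = F (uv.1 * (u * g) * uv.2)
    group
  exact h1 hK

/-- sums of right translates -/
theorem S2_sum_right [Finite Y] {F K : Y → ℚ} (hK : K ∈ S2 F) {ι : Type*} (s : Finset ι) (v : ι → Y) :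
    (fun g => ∑ i ∈ s, K (g * v i)) ∈ S2 F := by
  have h1 : (fun g => ∑ i ∈ s, K (g * v i)) = ∑ i ∈ s, fun g => K (g * v i) := by
    funext g
    rw [Finset.sum_apply]
  rw [h1]
  exact Submodule.sum_mem _ fun i _ => S2_right hK _

theorem S2_sum_left [Finite Y] {F K : Y → ℚ} (hK : K ∈ S2 F) {ι : Type*} (s : Finset ι) (u : ι → Y) :
    (fun g => ∑ i ∈ s, K (u i * g)) ∈ S2 F := by
  have h1 : (fun g => ∑ i ∈ s, K (u i * g)) = ∑ i ∈ s, fun g => K (u i * g) := by
    funext g
    rw [Finset.sum_apply]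
  rw [h1]
  exact Submodule.sum_mem _ fun i _ => S2_left hK _

variable {I W : Type*} [Fintype I] [DecidableEq I] [Group W] [Finite W] [Finite Y]
    {M : CoxeterMatrix I} (cs : CoxeterSystem M W) {A : I → I → ℤ} (h : IsCartan M A) (T : Subgroup Y)
    (n : I → Y) (X : (I → ℤ) → Subgroup Y)

theorem S2_opT {F K : Y → ℚ} (hK : K ∈ S2 F) (i : I) : opT X n i K ∈ S2 F := by
  classical
  have := Fintype.ofFinite (X (sr i))
  have h1 : opT X n i K = fun g => ∑ x : X (sr i), K (g * ((x : Y) * n i)) := by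
    funext g
    rw [opT_apply, finsum_eq_sum_of_fintype]
    exact Finset.sum_congr rfl fun x _ => by rw [mul_assoc]
  rw [h1]
  exact S2_sum_right hK _ _

theorem S2_opA {F K : Y → ℚ} (hK : K ∈ S2 F) (j : I) (f : ℚ) : opA cs h T X n j f K ∈ S2 F := by
  classical
  have := Fintype.ofFinite (PJ cs h T X {i | i ≠ j})
  have h1 : opA cs h T X n j f K = (f / Nat.card (PJ cs h T X {i | i ≠ j})) •
      fun g => ∑ p : PJ cs h T X {i | i ≠ j}, opT X n j K (g * p) := by
    funext g
    rw [opA, Pi.smul_apply, smul_eq_mul, finsum_eq_sum_of_fintype]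
  rw [h1]
  exact Submodule.smul_mem _ _ (S2_sum_right (S2_opT n X hK j) _ _)

theorem S2_opL {F K : Y → ℚ} (hK : K ∈ S2 F) (j : I) (f : ℚ) : opL cs h T X n j f K ∈ S2 F := by
  classical
  have := Fintype.ofFinite (PJ cs h T X {i | i ≠ j})
  have := Fintype.ofFinite (X (sr j))
  have h1 : opL cs h T X n j f K = (f / Nat.card (PJ cs h T X {i | i ≠ j})) •
      fun g => ∑ q : PJ cs h T X {i | i ≠ j} × X (sr j), K (((q.1 : Y) * q.2 * n j)⁻¹ * g) := by
    funext g
    rw [opL, opA, Pi.smul_apply, smul_eq_mul, finsum_eq_sum_of_fintype, Fintype.sum_prod_type]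
    congr 1
    refine Finset.sum_congr rfl fun q _ => ?_
    rw [opT_apply, finsum_eq_sum_of_fintype]
    refine Finset.sum_congr rfl fun x _ => ?_
    congr 1
    group
  rw [h1]
  exact Submodule.smul_mem _ _ (S2_sum_left hK _ _)

end Span

end Cfsg.Agent.H594.PQ
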