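import Cfsg.Agent.H154.PQE8.Kill
import Cfsg.Agent.H594.PQ.LinkE8z

/-!
# S4612, `E₈`: the orders `4, 12`, `8, 24` and `5, 15` (helper594; on the assembly of helper154)

`35` (node `7`) is in the principal `l`-block for `l ∣ Phi 12 (q)` or `Phi 24 (q)`, `567` (node `6`) has defect zero for
`l`, and `35`, `567` are in the same `p`-block for `p ∣ Phi 4 (q)` resp. `Phi 8 (q)`.
-/

set_option autoImplicit false
set_option maxRecDepth 20000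

namespace Cfsg.Agent.H594.PQ.KillE8

open Cfsg Cfsg.Agent.H967.Sph Cfsg.Agent.H317.PQ Cfsg.Agent.Blocks.Basic Cfsg.Agent.Blocks.Local Cfsg.Agent.H64.Dl.Sph
  Cfsg.Agent.H996.Eight Cfsg.Agent.H996.Eight.Cert Cfsg.Agent.H996.PQ Cfsg.Agent.H632.PQ.Arith Cfsg.Agent.H154.PQE8
  Cfsg.Agent.H790.PQ
open CoxeterSystem Cfsg.Agent.ChevalleyStructure.CoxeterGeom Cfsg.Agent.Tits.Roots Cfsg.Agent.Tits.Core
  Cfsg.Agent.Nodes.Reps Cfsg.Agent.Nodes.BNOf Cfsg.Agent.Nodes.Bruhat Cfsg.Agent.Nodes.LeviDec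
open Cfsg.Lie Cfsg.Agent.ChevalleyStructure Cfsg.Agent.ChevalleyStructure.CoxeterGeomTypes Cfsg.Agent.Nodes.RGDChev
  Cfsg.Agent.H35.ExcIdx

universe u

variable {W : Type*} {Y : Type u} [Group W] [Finite W] [Group Y] [Finite Y]
    {M : CoxeterMatrix (Fin 8)} {cs : CoxeterSystem M W} {A : Fin 8 → Fin 8 → ℤ} {h : IsCartan M A} {p : ℕ}
    {T : Subgroup Y} {n : Fin 8 → Y} {X : (Fin 8 → ℤ) → Subgroup Y}

theorem lam35_ok : ∀ c, pEq (pMul (FullE8a.lam 2 c) (TabE8a.c2.nu 0)) (pMul (TabE8a.data.kk c) (TabE8a.c2.nu c)) = true := by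
  decide +kernel

/-- **Type `E₈`, the orders `5` and `15`.** -/
theorem kill_E8_5_15 (K : Type u) [Field K] [Fintype K] : Kill ↥(chevE8.group K) (Fintype.card K) 5 15 :=
  kill_E8_515 K

/-! ### the orders `4` and `12` -/

/-- the quotients by `Phi 12` for `35` -/
def quo12 (c : Fin 5) : List ℤ := ([[], [-1, -1, -2, -2, -2, -3, -2, -3, -2, -2, -2, -1, -2, -1, -2, -2, -2, -3, -2, -3, -2, -2, -2, -1, -1], [0, 0, 0, 0, 0, 1, 0, 1, 0, 0, -1, -2, -3, -4, -5, -5, -6, -5, -6, -5, -5, -5, -5, -6, -6, -7, -7, -7, -7, -7, -6, -6, -5, -5, -4, -4, -3, -3, -2, -2, -1, -1], [0, 0, 0, 0, 0, 0, 0, 0, 0, 0, 0, 0, 0, 0, 1, 1, 2, 2, 2, 2, 1, 1, 0, 0, -1, -1, -1, -1, -1, -1, -1, -1, -1, -2, -2, -3, -3, -3, -4, -3, -4, -3, -3, -3, -2, -3, -2, -3, -2, -2, -2, -1, -1], [0, 0, 0, 0, 0, 0, 0, 0, 0, 0, 0, 0, 0, 0, 0, 0, 0, 0, 0, 0, 0, 0, 0, 0, 0, 0, 0, 0, 0, 0, 0, 0,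 0, 1, 0, 1, 0, 0, 0, -1, 0, -1, 0, 0, 0, 1, 0, 1, 0, 0, 0, -1, 0, -1]] : List (List ℤ)).getD c []

theorem quo12_ok : ∀ c, pEq (pAdd (FullE8a.lam 2 c) (pNeg (TabE8a.data.kk c))) (pMul (Phi 12) (quo12 c)) = true := by
  decide +kernel

/-- certificate of defect zero of `567` -/
def dz12 : DzC 1 :=
  ⟨12, 0, [12], [0, 0, 0, 0, 0, 0, 1, 0, 3, 0, 5, 0, 6, 0, 7, 0, 10, 0, 15, 0, 19, 0, 21, 0, 22, 0, 25, 0, 30, 0, 34, 0, 35, 0, 34, 0, 33, 0, 34, 0, 35, 0, 34, 0, 30, 0, 25, 0, 22, 0, 21, 0, 19, 0, 15, 0, 10, 0, 7, 0, 6, 0, 5, 0, 3, 0, 1], [(1, 1, [0, 0, -1, -1], [1]), (2, 1, [0, 0, 1, -1], [1]), (3, 2, [2, -1, -1, 1], [0, -1]), (4, 3, [2, 0, -1], [1]), (5, 1, [2, -1, -2, 2], [-1, -1, 0, -2]), (6, 2, [2, 1, -1, -1], [0, 1]), (7, 1, [-1, 0, 2, -2], [2, 1, 1, 2, 0, 2]), (8, 1, [1, 0, -1], [0, 0, 1]), (9, 1, [0, 0, 0, -1], [1, 0, 1, 1, 0, 1]), (10, 1, [2,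 1, -2, -2], [-1, 1, 0, 2]), (14, 1, [-1, 0, 2, 2], [2, -1, 1, -2, 0, -2]), (15, 1, [0, 1, 2, 1], [1, -1, 0, 0, -1, 0, -1, -1]), (18, 1, [0, 0, 0, 1], [1, 0, 1, -1, 0, -1]), (20, 1, [0, 0, 1], [1, 0, 0, 0, 0, 0, -1]), (24, 2, [0, 0, 1], [2, 0, 1, 0, -1, 0, -1]), (30, 1, [0, -1, 2, -1], [1, 1, 0, 0, -1, 0, -1, 1])]⟩

theorem dz12_ok : dz12.ok (polOf E567.C) od = true := by decide +kernel

theorem not_same_4_12 (R : RGD cs h p T n X) (hG : GG cs h T X = ⊤) (hA : A = TabE8c.A) {x : ℕ} (hx : 2 ≤ x)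
    (hq : ∀ i, Nat.card (X (sr i)) = x) {p' l' : ℕ} (hp : p'.Prime) (hp2 : p' ≠ 2) (hl : l'.Prime) (hl2 : l' ≠ 2)
    (he : ord x p' = 4) (hf : ord x l' = 12) (hlY : l' ∣ Nat.card Y)
    (hgd : ((Nat.card Y : ℕ) : ℤ) ∣ (x : ℤ) ^ 120 * (od.map fun d => evZ x (Phi d.1) ^ d.2).prod) :
    ¬ Same p' l' Y := by
  subst hA
  have hx' : (2 : ℚ) ≤ (x : ℚ) := by exact_mod_cast hx
  have hdz : (Nat.card Y).factorization l' ≤ (val E567.C.den E567.C.dn x).factorization l' := by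
    have hdeg : ∀ i, ((polOf E567.C).den i : ℤ) * ((polOf E567.C).deg x i : ℤ) = evZ x ((polOf E567.C).dn i) := by
      intro i
      have h1 := val_spec E567.ok.2.2.2.2 E567.dvd E567.ok.2.1 hx
      have h2 := evZ_cast (x : ℤ) E567.C.dn
      push_cast at h2
      rw [← h2] at h1
      exact_mod_cast h1
    exact DzC.spec dz12_ok hx hdeg Nat.card_pos.ne' hgd hl hl2 hf
  refine H154.PQE8.not_same R hG data7 TabE8c.data hx (fun i => ?_) (fun i => ?_) cls7 cls_o TabE8a.c2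
    (ok1_of_ok TabE8a.ok2) (uq_of_ok TabE8a.ok2) TabE8a.dvd2 E567.C E567.ok E567.uq E567.dvd lam35_ok hp hl
    (fun c => ?_) hlY hdz ?_
  · have h9 : ∀ i, TabE8a.data.e i = 1 := by decide +kernel
    rw [hq, show data7.e i = 1 from h9 i, pow_one]
  · rw [hq, e_eq, pow_one]
  · have h1 := evZ_of_pEq (x : ℤ) (quo12_ok c)
    rw [evZ_pAdd, evZ_pNeg, evZ_pMul] at h1
    rw [sub_eq_add_neg]
    show (l' : ℤ) ∣ evZ x (FullE8a.lam 2 c) + -evZ x (TabE8a.data.kk c)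
    rw [h1]
    exact (dvd_Phi hl hf (by decide)).mul_right _
  · intro χ χ' H H' M' hM
    have hnu : ev (x : ℚ) (TabE8a.c2.nu 0) ≠ 0 := (ev_pos hx' pos35).ne'
    exact same_35_567_four R hG hx hq H (r := (ev (x : ℚ) (TabE8a.c2.nu 0))⁻¹) (inv_ne_zero hnu)
      (fun c => by rw [sphC, div_eq_inv_mul]) H' (fun c => ha567 hx c) hp hp2 (dvd_Phi hp he (by decide)) hM

/-- **Type `E₈`, the orders `4` and `12`.** -/
theorem kill_E8_4_12 (K : Type u) [Field K] [Fintype K] : Kill ↥(chevE8.group K) (Fintype.card K) 4 12 := by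
  intro p' l' hp' hl' hp2 hl2 _ _ hlG he' hf'
  obtain ⟨r, hr⟩ := CharP.exists K
  have : Fact r.Prime := ⟨CharP.char_is_prime K r⟩
  have := finite_W hpE8 CoxeterMatrix.E₈.toCoxeterSystem
  have := finite_group chevE8 K
  have hA : cartanOf chevE8 8 = TabE8c.A := by
    funext i k
    revert i k
    decide +kernel
  exact not_same_4_12 (rgd (K := K) hpE8 CoxeterMatrix.E₈.toCoxeterSystem r)
    (GG_eq_top hpE8 K CoxeterMatrix.E₈.toCoxeterSystem) hA Fintype.one_lt_card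
    (fun i => by rw [card_XX hpE8 K CoxeterMatrix.E₈.toCoxeterSystem (isRoot_sr _ _ i), Nat.card_eq_fintype_card])
    hp' hp2 hl' hl2 he' hf' hlG (card_dvd K)

/-! ### the orders `8` and `24` -/

/-- the quotients by `Phi 24` for `35` -/
def quo24 (c : Fin 5) : List ℤ := ([[], [-1, -1, -1, -1, -2, -3, -3, -3, -3, -4, -4, -4, -3, -3, -3, -3, -2, -1, -1, -1, -1], [0, 0, 0, 0, 0, 1, 0, 0, 0, 1, -1, -1, -2, -2, -4, -4, -6, -7, -8, -8, -9, -10, -10, -10, -9, -9, -8, -8, -6, -6, -4, -4, -3, -3, -1, -1, -1, -1], [0, 0, 0, 0, 0, 0, 0, 0, 0, 0, 0, 0, 0, 0, 1, 1, 1, 1, 2, 2, 2, 2, 2, 2, 1, 1, 0, 0, -2, -2, -3, -3, -4, -5, -5, -5, -4, -5, -5, -5, -3, -3, -3, -3, -2, -1, -1, -1, -1], [0, 0, 0, 0, 0, 0, 0, 0, 0, 0, 0, 0, 0, 0, 0, 0, 0, 0, 0, 0, 0, 0, 0, 0, 0, 0, 0, 0, 0, 0, 0, 0, 0, 1, 0, 0, 0, 1, 0, 0, 0, 0, 0, 0, 0, -1, 0, 0, 0, -1]] : List (List ℤ)).getD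 c []

theorem quo24_ok : ∀ c, pEq (pAdd (FullE8a.lam 2 c) (pNeg (TabE8a.data.kk c))) (pMul (Phi 24) (quo24 c)) = true := by
  decide +kernel

/-- certificate of defect zero of `567` -/
def dz24 : DzC 1 :=
  ⟨24, 0, [24], [0, 0, 0, 0, 0, 0, 1, 0, 1, 0, 3, 0, 4, 0, 7, 0, 10, 0, 13, 0, 17, 0, 21, 0, 24, 0, 29, 0, 30, 0, 34, 0, 35, 0, 36, 0, 37, 0, 36, 0, 35, 0, 34, 0, 30, 0, 29, 0, 24, 0, 21, 0, 17, 0, 13, 0, 10, 0, 7, 0, 4, 0, 3, 0, 1, 0, 1], [(1, 1, [0, 0, 0, 0, -1, -1, -1, -1], [1]), (2, 1, [0, 0, 0, 0, 1, -1, 1, -1], [1]), (3, 2, [1, -2, 1, 1, -1, 1, 0, -1], [1, 1]), (4, 1, [0, 0, 0, 0, 1, 0, -1], [1]), (5, 1, [2, 0, -1, -1, -1, 1, 1], [-1, -2, -1]), (6, 2, [1, 2, 1, -1, -1, -1, 0, 1], [1, -1]), (7, 1, [1, 1, -1, -1, 1, -1, -1, 2], [0, -2, -1, 0, -1, -2]), (8, 3, [2, 0, 0, 0, -1], [1]), (9, 1, [1, -1, 0, 0, 0, 1, -1], [0, 1, 0, -1, 1]), (10,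 1, [2, 0, -1, 1, -1, -1, 1], [-1, 2, -1]), (12, 2, [2, 0, 1, 0, -1, 0, -1], [0, 0, 1]), (14, 1, [1, -1, -1, 1, 1, 1, -1, -2], [0, 2, -1, 0, -1, 2]), (15, 1, [0, 1, 0, 0, 0, -1, 0, -1], [1, -1, 1, 0, 0, 1, -1, 1]), (18, 1, [1, 1, 0, 0, 0, -1, -1], [0, -1, 0, 1, 1]), (20, 1, [2, 0, 1, 0, -2, 0, -2], [-1, 0, 1, 0, 0, 0, 2]), (30, 1, [0, -1, 0, 0, 0, 1, 0, 1], [1, 1, 1, 0, 0, -1, -1, -1])]⟩

theorem dz24_ok : dz24.ok (polOf E567.C) od = true := by decide +kernel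

theorem not_same_8_24 (R : RGD cs h p T n X) (hG : GG cs h T X = ⊤) (hA : A = TabE8c.A) {x : ℕ} (hx : 2 ≤ x)
    (hq : ∀ i, Nat.card (X (sr i)) = x) {p' l' : ℕ} (hp : p'.Prime) (hp2 : p' ≠ 2) (hl : l'.Prime) (hl2 : l' ≠ 2)
    (he : ord x p' = 8) (hf : ord x l' = 24) (hlY : l' ∣ Nat.card Y)
    (hgd : ((Nat.card Y : ℕ) : ℤ) ∣ (x : ℤ) ^ 120 * (od.map fun d => evZ x (Phi d.1) ^ d.2).prod) :
    ¬ Same p' l' Y := by
  subst hA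
  have hx' : (2 : ℚ) ≤ (x : ℚ) := by exact_mod_cast hx
  have hdz : (Nat.card Y).factorization l' ≤ (val E567.C.den E567.C.dn x).factorization l' := by
    have hdeg : ∀ i, ((polOf E567.C).den i : ℤ) * ((polOf E567.C).deg x i : ℤ) = evZ x ((polOf E567.C).dn i) := by
      intro i
      have h1 := val_spec E567.ok.2.2.2.2 E567.dvd E567.ok.2.1 hx
      have h2 := evZ_cast (x : ℤ) E567.C.dn
      push_cast at h2
      rw [← h2] at h1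
      exact_mod_cast h1
    exact DzC.spec dz24_ok hx hdeg Nat.card_pos.ne' hgd hl hl2 hf
  refine H154.PQE8.not_same R hG data7 TabE8c.data hx (fun i => ?_) (fun i => ?_) cls7 cls_o TabE8a.c2
    (ok1_of_ok TabE8a.ok2) (uq_of_ok TabE8a.ok2) TabE8a.dvd2 E567.C E567.ok E567.uq E567.dvd lam35_ok hp hl
    (fun c => ?_) hlY hdz ?_
  · have h9 : ∀ i, TabE8a.data.e i = 1 := by decide +kernel
    rw [hq, show data7.e i = 1 from h9 i, pow_one]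
  · rw [hq, e_eq, pow_one]
  · have h1 := evZ_of_pEq (x : ℤ) (quo24_ok c)
    rw [evZ_pAdd, evZ_pNeg, evZ_pMul] at h1
    rw [sub_eq_add_neg]
    show (l' : ℤ) ∣ evZ x (FullE8a.lam 2 c) + -evZ x (TabE8a.data.kk c)
    rw [h1]
    exact (dvd_Phi hl hf (by decide)).mul_right _
  · intro χ χ' H H' M' hM
    have hnu : ev (x : ℚ) (TabE8a.c2.nu 0) ≠ 0 := (ev_pos hx' pos35).ne'
    exact same_35_567_eight R hG hx hq H (r := (ev (x : ℚ) (TabE8a.c2.nu 0))⁻¹) (inv_ne_zero hnu)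
      (fun c => by rw [sphC, div_eq_inv_mul]) H' (fun c => ha567 hx c) hp hp2 (dvd_Phi hp he (by decide)) hM

/-- **Type `E₈`, the orders `8` and `24`.** -/
theorem kill_E8_8_24 (K : Type u) [Field K] [Fintype K] : Kill ↥(chevE8.group K) (Fintype.card K) 8 24 := by
  intro p' l' hp' hl' hp2 hl2 _ _ hlG he' hf'
  obtain ⟨r, hr⟩ := CharP.exists K
  have : Fact r.Prime := ⟨CharP.char_is_prime K r⟩
  have := finite_W hpE8 CoxeterMatrix.E₈.toCoxeterSystem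
  have := finite_group chevE8 K
  have hA : cartanOf chevE8 8 = TabE8c.A := by
    funext i k
    revert i k
    decide +kernel
  exact not_same_8_24 (rgd (K := K) hpE8 CoxeterMatrix.E₈.toCoxeterSystem r)
    (GG_eq_top hpE8 K CoxeterMatrix.E₈.toCoxeterSystem) hA Fintype.one_lt_card
    (fun i => by rw [card_XX hpE8 K CoxeterMatrix.E₈.toCoxeterSystem (isRoot_sr _ _ i), Nat.card_eq_fintype_card])
    hp' hp2 hl' hl2 he' hf' hlG (card_dvd K)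

end Cfsg.Agent.H594.PQ.KillE8
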